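import Cfsg.Agent.H168.FRHex.LongOne
import Cfsg.Agent.H721.FR.Base
import Cfsg.Agent.HexModel.Main
import Cfsg.Prelude.Def_LieChev
import Cfsg.Prelude.Def_LieTwisted

/-!
# Indicators of `³D₄(q)`, `q` even: reduction to the long root involution (team SR, S4970; helper168)
-/

set_option autoImplicit false
set_option linter.unusedVariables false

namespace Cfsg.Agent.H168.FRHex

open Cfsg Cfsg.Agent.H955.FS Cfsg.Agent.StdRank2.Hex Cfsg.Agent.StdRank2.Hex.HexTwo Cfsg.Agent.SplitTwo
open Cfsg.Agent.H168.SRHex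

universe u v

/-- centralisers of conjugate elements -/
theorem good_centralizer_conj {G : Type u} [Group G] [Finite G] {y z b : G} (e : b * z * b⁻¹ = y)
    (h : FSGood True (Subgroup.centralizer ({y} : Set G))) : FSGood True (Subgroup.centralizer ({z} : Set G)) := by
  have e1 : (Subgroup.centralizer ({y} : Set G)).map (MulAut.conj b⁻¹).toMonoidHom =
      Subgroup.centralizer ({z} : Set G) := by
    ext g
    constructor
    · rintro ⟨c, hc, rfl⟩
      rw [SetLike.mem_coe, Subgroup.mem_centralizer_singleton_iff] at hc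
      rw [Subgroup.mem_centralizer_singleton_iff]
      show b⁻¹ * c * b⁻¹⁻¹ * z = z * (b⁻¹ * c * b⁻¹⁻¹)
      rw [← e] at hc
      calc b⁻¹ * c * b⁻¹⁻¹ * z = b⁻¹ * (c * (b * z * b⁻¹)) * b := by group
        _ = b⁻¹ * ((b * z * b⁻¹) * c) * b := by rw [hc]
        _ = _ := by group
    · intro hg
      rw [Subgroup.mem_centralizer_singleton_iff] at hg
      refine ⟨b * g * b⁻¹, ?_, ?_⟩
      · rw [SetLike.mem_coe, Subgroup.mem_centralizer_singleton_iff, ← e]
        calc b * g * b⁻¹ * (b * z * b⁻¹) = b * (g * z) * b⁻¹ := by group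
          _ = b * (z * g) * b⁻¹ := by rw [hg]
          _ = _ := by group
      · show b⁻¹ * (b * g * b⁻¹) * b⁻¹⁻¹ = g
        group
  rw [← e1]
  exact h.of_equiv ((Subgroup.centralizer ({y} : Set G)).equivMapOfInjective _ (MulAut.conj b⁻¹).injective)

variable {E : Type u} [Field E] {σ : E ≃+* E} {G : Type v} [Group G] {x : ZMod 12 → E → G}

/-- **Reduction to the long root involution.** -/
theorem good_of_long (h : HexTwo σ x) [Finite E] [Finite G] (hA : AA σ x = ⊤)
    (hlong : FSGood True (Subgroup.centralizer ({x 4 1} : Set G))) : FSGood True G := by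
  refine inv_cover fun z hz hz1 => ?_
  have h2 : IsPGroup 2 (Subgroup.zpowers z) := by
    refine IsPGroup.of_card (n := 1) ?_
    rw [Nat.card_zpowers, pow_one]
    exact orderOf_eq_prime (by rw [pow_two, hz]) hz1
  obtain ⟨p, -, hp⟩ := h.sylow_conj (S := ⊤) (Q := Subgroup.zpowers z) le_top (by rw [hA]) h2 le_top
  have hc := h.cls_U (hp z (Subgroup.mem_zpowers z)) (by
    calc p * z * p⁻¹ * (p * z * p⁻¹) = p * (z * z) * p⁻¹ := by group
      _ = 1 := by rw [hz]; group) (fun e => hz1 (by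
    have : z = p⁻¹ * (p * z * p⁻¹) * p := by group
    rw [this, e]; group))
  have key : ∀ {b y : G}, b * (p * z * p⁻¹) * b⁻¹ = y → (b * p) * z * (b * p)⁻¹ = y := fun e => by
    rw [← e]; group
  rcases hc with ⟨b, hb, hc⟩ | ⟨b, hb, hc⟩
  · exact good_centralizer_conj (key hc) hlong
  · exact good_centralizer_conj (key hc) (Short.short_good h hA)

/-- `gen (arc 1 7)` is the centraliser of the long root involution -/
theorem centralizer_long (h : HexTwo σ x) [Finite E] (hA : AA σ x = ⊤) :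
    Subgroup.centralizer ({x 4 1} : Set G) = gen σ x (arc 1 7) := by
  ext g
  rw [Subgroup.mem_centralizer_singleton_iff, ← h.mem_centralizer_x4 (g := g) (by rw [hA]; exact Subgroup.mem_top g)
    (map_one σ) one_ne_zero, mul_inv_eq_iff_eq_mul]

/-- **Assembly**: `hlong2` are the characters of `⟨X₁, …, X₇⟩` which are not trivial on `X₄`. -/
theorem good_of_long_two (h : HexTwo σ x) [Finite E] [Finite G] (hA : AA σ x = ⊤)
    (hlong2 : ∀ χ : gen σ x (arc 1 7) → ℂ, IsIrrCharacter (gen σ x (arc 1 7)) χ →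
      (∃ z, ∃ (hz : z ∈ gen σ x {4}) (hz' : z ∈ gen σ x (arc 1 7)), χ ⟨z, hz'⟩ ≠ χ 1) →
      fsi χ = 1 ∨ (True ∧ fsi χ = 0)) : FSGood True G := by
  refine good_of_long h hA ?_
  rw [centralizer_long h hA]
  intro χ hχ
  by_cases hk : ∃ z, ∃ (hz : z ∈ gen σ x {4}) (hz' : z ∈ gen σ x (arc 1 7)), χ ⟨z, hz'⟩ ≠ χ 1
  · exact hlong2 χ hχ hk
  · push Not at hk
    exact Long.long_one h hχ hk

end Cfsg.Agent.H168.FRHex
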