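import Cfsg.Agent.H168.FRHex.Cover

/-!
# Groups `X = N L` (team SR, S4970; helper168)

* `good_of_levi` : `N` a normal 2-group, centralisers of involutions of `L` of exponent two; elements of odd order
  of `L` centralise only a subgroup `C` of `N` which is of exponent two and centralised by `L`.
-/

set_option autoImplicit false

universe u

namespace Cfsg.Agent.H168.FRHex

open Cfsg Cfsg.Agent.H955.FS

variable {Γ : Type u} [Group Γ]

/-- conjugate of a good subgroup -/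
theorem exists_conj_good (X Y0 : Subgroup Γ) [Finite X] (hY0 : Y0 ≤ X) (hg : FSGood True Y0) {p : Γ} (hp : p ∈ X) :
    ∃ Y : Subgroup Γ, Y ≤ X ∧ (∀ g, p * g * p⁻¹ ∈ Y0 → g ∈ Y) ∧ FSGood True Y := by
  let f : Γ →* Γ := (MulAut.conj p⁻¹).toMonoidHom
  have hf : ∀ g, f g = p⁻¹ * g * p := fun g => by
    show p⁻¹ * g * p⁻¹⁻¹ = _
    rw [inv_inv]
  have hi : Function.Injective f := (MulAut.conj p⁻¹).injective
  have : Finite Y0 := Finite.of_injective (Subgroup.inclusion hY0) (Subgroup.inclusion_injective hY0)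
  refine ⟨Y0.map f, ?_, ?_, hg.of_equiv (Y0.equivMapOfInjective f hi)⟩
  · rintro _ ⟨y, hy, rfl⟩
    rw [hf]
    exact mul_mem (mul_mem (inv_mem hp) (hY0 hy)) hp
  · intro g hgY
    refine ⟨p * g * p⁻¹, hgY, ?_⟩
    rw [hf]; group

/-- the product of two commuting good subgroups -/
theorem good_mul (C L : Subgroup Γ) [Finite C] [Finite L] (hC : FSGood True C) (hL : FSGood True L)
    (hCL : ∀ c ∈ C, ∀ l ∈ L, l * c = c * l) :
    ∃ Y : Subgroup Γ, (∀ g, g ∈ Y ↔ ∃ c ∈ C, ∃ l ∈ L, g = c * l) ∧ FSGood True Y := by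
  let f : C × L →* Γ :=
    { toFun := fun y => y.1 * y.2
      map_one' := by simp
      map_mul' := by
        rintro ⟨c, l⟩ ⟨c', l'⟩
        show (c : Γ) * c' * ((l : Γ) * l') = c * l * (c' * l')
        have := hCL c' c'.2 l l.2
        calc (c : Γ) * c' * ((l : Γ) * l') = c * (c' * l) * l' := by group
          _ = c * (l * c') * l' := by rw [this]
          _ = _ := by group }
  refine ⟨f.range, fun g => ?_, ?_⟩
  · constructor
    · rintro ⟨⟨c, l⟩, rfl⟩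
      exact ⟨c, c.2, l, l.2, rfl⟩
    · rintro ⟨c, hc, l, hl, rfl⟩
      exact ⟨(⟨c, hc⟩, ⟨l, hl⟩), rfl⟩
  · exact (hC.prod hL).of_surjective f.rangeRestrict f.rangeRestrict_surjective

/-- elements of odd order of `N L` are conjugate to elements of `L` -/
theorem exists_conj_compl (X N L : Subgroup Γ) [Finite X] (hNX : N ≤ X) (hLX : L ≤ X)
    (hdec : ∀ x ∈ X, ∃ n ∈ N, ∃ l ∈ L, x = n * l) (hNn : ∀ x ∈ X, ∀ n ∈ N, x * n * x⁻¹ ∈ N)
    (hNL : ∀ g ∈ N, g ∈ L → g = 1) (hN2 : IsPGroup 2 N) {s : Γ} (hs : s ∈ X) {m : ℕ} (hm : Odd m) (hsm : s ^ m = 1) :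
    ∃ p ∈ X, p * s * p⁻¹ ∈ L := by
  obtain ⟨n, hn, l, hl, rfl⟩ := hdec s hs
  have hpow : ∀ k : ℕ, ∃ n' ∈ N, (n * l) ^ k = n' * l ^ k := by
    intro k
    induction k with
    | zero => exact ⟨1, one_mem _, by simp⟩
    | succ k ih =>
      obtain ⟨n', hn', e⟩ := ih
      refine ⟨n' * (l ^ k * n * (l ^ k)⁻¹), mul_mem hn' (hNn _ (hLX (pow_mem hl k)) n hn), ?_⟩
      rw [pow_succ, e, pow_succ]; group
  have hlm : l ^ m = 1 := by
    obtain ⟨n', hn', e⟩ := hpow m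
    rw [hsm] at e
    have h1 : l ^ m ∈ N := by
      have : l ^ m = n'⁻¹ := (inv_eq_of_mul_eq_one_right e.symm).symm
      rw [this]
      exact inv_mem hn'
    exact hNL _ h1 (pow_mem hl m)
  have hnorm : (N.subgroupOf X).Normal := by
    refine ⟨fun y hy g => ?_⟩
    rw [Subgroup.mem_subgroupOf] at hy ⊢
    exact hNn g g.2 y hy
  have h2 : IsPGroup 2 (N.subgroupOf X) :=
    hN2.of_equiv (Subgroup.subgroupOfEquivOfLe hNX).symm
  obtain ⟨r, hr⟩ := IsPGroup.iff_card.1 h2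
  have hcop : ∀ y : X, y ^ m = 1 → (Nat.card (Subgroup.zpowers y)).Coprime (Nat.card (N.subgroupOf X)) := by
    intro y hy
    rw [Nat.card_zpowers, hr]
    exact Nat.Coprime.pow_right r ((hm.coprime_two_right).coprime_dvd_left (orderOf_dvd_of_pow_eq_one hy))
  obtain ⟨p, hp⟩ := Cfsg.Agent.H967.CopConj.conj_le (N.subgroupOf X)
    (Subgroup.zpowers (⟨l, hLX hl⟩ : X)) inferInstance
    (hcop _ (Subtype.ext (by simpa using hlm))) (Subgroup.zpowers (⟨n * l, hs⟩ : X))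
    (hcop _ (Subtype.ext (by simpa using hsm))) (by
      rw [Subgroup.zpowers_le]
      have e : (⟨n * l, hs⟩ : X) = ⟨n, hNX hn⟩ * ⟨l, hLX hl⟩ := rfl
      rw [e, sup_comm]
      exact Subgroup.mul_mem_sup (Subgroup.mem_subgroupOf.2 hn) (Subgroup.mem_zpowers _))
  refine ⟨p, p.2, ?_⟩
  have h3 : p * (⟨n * l, hs⟩ : X) * p⁻¹ ∈ Subgroup.zpowers (⟨l, hLX hl⟩ : X) :=
    hp (Subgroup.smul_mem_pointwise_smul _ (MulAut.conj p) _ (Subgroup.mem_zpowers _))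
  obtain ⟨k, hk⟩ := Subgroup.mem_zpowers_iff.1 h3
  have h4 := congrArg (fun y : X => (y : Γ)) hk
  simp only [Subgroup.coe_mul, Subgroup.coe_inv, Subgroup.coe_zpow] at h4
  rw [← h4]
  exact zpow_mem hl k

/-- **Indicators of `X = N L`.** -/
theorem good_of_levi (X N L C T : Subgroup Γ) [Finite X] (hNX : N ≤ X) (hLX : L ≤ X)
    (hdec : ∀ x ∈ X, ∃ n ∈ N, ∃ l ∈ L, x = n * l) (hNn : ∀ x ∈ X, ∀ n ∈ N, x * n * x⁻¹ ∈ N)
    (hNL : ∀ g ∈ N, g ∈ L → g = 1) (hN2 : IsPGroup 2 N) (hL : CI L) (hCN : C ≤ N) (hC2 : ∀ c ∈ C, c * c = 1)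
    (hCL : ∀ c ∈ C, ∀ l ∈ L, l * c = c * l) (hfix : ∀ s ∈ L, s * s ≠ 1 → ∀ n ∈ N, s * n = n * s → n ∈ C)
    (hTX : T ≤ X) (hT : FSGood True T) (hTS : ∀ P ≤ X, IsPGroup 2 P → ∃ p ∈ X, ∀ g ∈ P, p * g * p⁻¹ ∈ T) :
    FSGood True X := by
  have hfL : Finite L := Finite.of_injective (Subgroup.inclusion hLX) (Subgroup.inclusion_injective hLX)
  have hfC : Finite C := Finite.of_injective (Subgroup.inclusion (hCN.trans hNX)) (Subgroup.inclusion_injective _)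
  refine fsGood_of_cover_amb X fun c hc hodd P hPX hP hcP => ?_
  by_cases hc1 : c = 1
  · obtain ⟨p, hp, hpT⟩ := hTS P hPX hP
    obtain ⟨Y, h1, h2, h3⟩ := exists_conj_good X T hTX hT hp
    exact ⟨Y, h1, by rw [hc1]; exact one_mem _, fun g hg => h2 g (hpT g hg), h3⟩
  · obtain ⟨Y0, hY0, hY0g⟩ := good_mul C L
      (good_of_exp_two fun y => Subtype.ext (hC2 y y.2)) (ci_good hL) hCL
    have hY0X : Y0 ≤ X := by
      intro g hg
      obtain ⟨c, hc, l, hl, rfl⟩ := (hY0 g).1 hg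
      exact mul_mem (hNX (hCN hc)) (hLX hl)
    obtain ⟨p, hp, hpc⟩ := exists_conj_compl X N L hNX hLX hdec hNn hNL hN2 hc hodd (pow_orderOf_eq_one c)
    obtain ⟨Y, h1, h2, h3⟩ := exists_conj_good X Y0 hY0X hY0g hp
    refine ⟨Y, h1, h2 c ((hY0 _).2 ⟨1, one_mem _, _, hpc, by rw [one_mul]⟩), fun g hg => h2 g ?_, h3⟩
    -- `s = p c p⁻¹`
    set s := p * c * p⁻¹ with hsdef
    have hs1 : s * s ≠ 1 := by
      intro e
      apply hc1
      have e1 : c * c = 1 := by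
        calc c * c = p⁻¹ * (s * s) * p := by rw [hsdef]; group
          _ = 1 := by rw [e]; group
      rw [← pow_two] at e1
      rcases (Nat.dvd_prime Nat.prime_two).1 (orderOf_dvd_of_pow_eq_one e1) with h7 | h7
      · exact orderOf_eq_one_iff.1 h7
      · rw [h7] at hodd
        exact absurd hodd (by decide)
    obtain ⟨n, hn, l, hl, e1⟩ := hdec (p * g * p⁻¹) (mul_mem (mul_mem hp (hPX hg)) (inv_mem hp))
    -- `(n l) s (n l)⁻¹ = s'`
    have key : ∃ s' ∈ L, (n * l) * s * (n * l)⁻¹ = s' ∧ (s' = s ∨ s' = s⁻¹) := by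
      rw [← e1]
      rcases hcP g hg with h5 | h5
      · refine ⟨s, hpc, ?_, Or.inl rfl⟩
        calc p * g * p⁻¹ * s * (p * g * p⁻¹)⁻¹ = p * (g * c * g⁻¹) * p⁻¹ := by rw [hsdef]; group
          _ = s := by rw [h5]
      · refine ⟨s⁻¹, inv_mem hpc, ?_, Or.inr rfl⟩
        calc p * g * p⁻¹ * s * (p * g * p⁻¹)⁻¹ = p * (g * c * g⁻¹) * p⁻¹ := by rw [hsdef]; group
          _ = s⁻¹ := by rw [h5, hsdef]; group
    obtain ⟨s', hs'L, e2, hs'⟩ := key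
    have hL1 : l * s * l⁻¹ ∈ L := mul_mem (mul_mem hl hpc) (inv_mem hl)
    have e3 : n * ((l * s * l⁻¹) * n⁻¹ * (l * s * l⁻¹)⁻¹) = s' * (l * s * l⁻¹)⁻¹ := by
      rw [← e2]; group
    have h6 : s' * (l * s * l⁻¹)⁻¹ = 1 := by
      refine hNL _ ?_ (mul_mem hs'L (inv_mem hL1))
      rw [← e3]
      exact mul_mem hn (hNn _ (hLX hL1) _ (inv_mem hn))
    have h7 : l * s * l⁻¹ = s' := (mul_inv_eq_one.1 h6).symm
    have h8 : n * s' * n⁻¹ = s' := by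
      calc n * s' * n⁻¹ = n * (l * s * l⁻¹) * n⁻¹ := by rw [h7]
        _ = n * l * s * (n * l)⁻¹ := by group
        _ = s' := e2
    have h9 : s * n = n * s := by
      rw [mul_inv_eq_iff_eq_mul] at h8
      rcases hs' with rfl | rfl
      · exact h8.symm
      · calc s * n = s * (n * s⁻¹) * s := by group
          _ = n * s := by rw [h8]; group
    rw [hY0, e1]
    exact ⟨n, hfix s hpc hs1 n hn h9, l, hl, rfl⟩

/-- Sylow 2-subgroups of `X = N L` -/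
theorem sylow_of_levi (X N L S T : Subgroup Γ) (hNX : N ≤ X) (hLX : L ≤ X)
    (hdec : ∀ x ∈ X, ∃ n ∈ N, ∃ l ∈ L, x = n * l) (hNn : ∀ x ∈ X, ∀ n ∈ N, x * n * x⁻¹ ∈ N)
    (hNL : ∀ g ∈ N, g ∈ L → g = 1) (hT : ∀ n ∈ N, ∀ s ∈ S, n * s ∈ T)
    (hS : ∀ P ≤ L, IsPGroup 2 P → ∃ l ∈ L, ∀ g ∈ P, l * g * l⁻¹ ∈ S) (P : Subgroup Γ) (hPX : P ≤ X)
    (hP : IsPGroup 2 P) : ∃ p ∈ X, ∀ g ∈ P, p * g * p⁻¹ ∈ T := by
  -- uniqueness of the decomposition
  have uniq : ∀ n ∈ N, ∀ n' ∈ N, ∀ l ∈ L, ∀ l' ∈ L, n * l = n' * l' → n = n' ∧ l = l' := by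
    intro n hn n' hn' l hl l' hl' e
    have e1 : n'⁻¹ * n = l' * l⁻¹ := by
      rw [eq_mul_inv_iff_mul_eq, mul_assoc, e, inv_mul_cancel_left]
    have h1 := hNL _ (mul_mem (inv_mem hn') hn) (by rw [e1]; exact mul_mem hl' (inv_mem hl))
    have e2 : n' = n := inv_mul_eq_one.1 h1
    subst e2
    exact ⟨rfl, mul_left_cancel e⟩
  -- the projection
  let Q : Subgroup Γ :=
    { carrier := {l | l ∈ L ∧ ∃ n ∈ N, n * l ∈ P}
      mul_mem' := by
        rintro a b ⟨ha, n, hn, h1⟩ ⟨hb, n', hn', h2⟩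
        refine ⟨mul_mem ha hb, n * (a * n' * a⁻¹), mul_mem hn (hNn _ (hLX ha) _ hn'), ?_⟩
        have e : n * (a * n' * a⁻¹) * (a * b) = n * a * (n' * b) := by group
        rw [e]
        exact mul_mem h1 h2
      one_mem' := ⟨one_mem _, 1, one_mem _, by rw [one_mul]; exact one_mem _⟩
      inv_mem' := by
        rintro a ⟨ha, n, hn, h1⟩
        refine ⟨inv_mem ha, a⁻¹ * n⁻¹ * a⁻¹⁻¹, hNn _ (hLX (inv_mem ha)) _ (inv_mem hn), ?_⟩
        have e : a⁻¹ * n⁻¹ * a⁻¹⁻¹ * a⁻¹ = (n * a)⁻¹ := by group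
        rw [e]
        exact inv_mem h1 }
  have hQL : Q ≤ L := fun l hl => hl.1
  have hQ2 : IsPGroup 2 Q := by
    rintro ⟨l, hl, n, hn, hnl⟩
    obtain ⟨k, hk⟩ := hP ⟨n * l, hnl⟩
    refine ⟨k, Subtype.ext ?_⟩
    show l ^ 2 ^ k = 1
    have hk' : (n * l) ^ 2 ^ k = 1 := congrArg Subtype.val hk
    have hpow : ∀ k : ℕ, ∃ n' ∈ N, (n * l) ^ k = n' * l ^ k := by
      intro k
      induction k with
      | zero => exact ⟨1, one_mem _, by simp⟩
      | succ k ih =>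
        obtain ⟨n', hn', e⟩ := ih
        refine ⟨n' * (l ^ k * n * (l ^ k)⁻¹), mul_mem hn' (hNn _ (hLX (pow_mem hl k)) n hn), ?_⟩
        rw [pow_succ, e, pow_succ]; group
    obtain ⟨n', hn', e⟩ := hpow (2 ^ k)
    rw [hk'] at e
    exact (uniq 1 (one_mem _) n' hn' 1 (one_mem _) _ (pow_mem hl _) (by rw [one_mul, e])).2.symm
  obtain ⟨l, hl, hlS⟩ := hS Q hQL hQ2
  refine ⟨l, hLX hl, fun g hg => ?_⟩
  obtain ⟨n, hn, y, hy, rfl⟩ := hdec g (hPX hg)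
  have h1 := hlS y ⟨hy, n, hn, hg⟩
  have e : l * (n * y) * l⁻¹ = (l * n * l⁻¹) * (l * y * l⁻¹) := by group
  rw [e]
  exact hT _ (hNn _ (hLX hl) _ hn) _ h1

end Cfsg.Agent.H168.FRHex
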