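import Cfsg.Agent.H168.FRHex.Final
import Cfsg.Agent.H893.FR.LongTwoFin
import Cfsg.Agent.H969.FR.TDFour
import Cfsg.Agent.HexModel.Main
import Cfsg.Prelude.Def_LieChev
import Cfsg.Prelude.Def_LieTwisted

/-!
# Team SR, second part (S4970): the row `³D₄(q)` (helper168)
-/

set_option autoImplicit false

universe u

namespace Cfsg.Agent.H168.FRHex.Rows

open Cfsg Cfsg.Lie Cfsg.Agent.StdRank2.Hex Cfsg.Agent.H955.FS Cfsg.Agent.H721.FR Cfsg.Agent.HexModel.Main

/-- **`³D₄(q)`, `q` even**: no indicator is `-1` -/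
theorem good_d4 {K : Type u} [Field K] [Fintype K] {q : ℕ} (hq : IsPrimePow q) (hK : Fintype.card K = q ^ 3)
    (h2 : (2 : K) = 0) : FSGood True ↥(twistedD4 K q) := by
  obtain ⟨p, a, hp, ha, rfl⟩ := hq
  have hp2 : p = 2 := by
    have h3 : p ∣ Fintype.card K := by rw [hK]; exact dvd_pow (dvd_pow_self p ha.ne') (by norm_num)
    have hchar : CharP K 2 := by
      rw [CharP.charP_iff_prime_eq_zero Nat.prime_two]
      exact_mod_cast h2
    obtain ⟨n, -, hn⟩ := FiniteField.card K 2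
    rw [hn] at h3
    exact (Nat.prime_dvd_prime_iff_eq hp.nat_prime Nat.prime_two).1 (hp.nat_prime.dvd_of_dvd_pow h3)
  subst hp2
  have hK' : Fintype.card K = 8 ^ a := by
    rw [hK, ← pow_mul, mul_comm, pow_mul]; norm_num
  obtain ⟨σ, hσ, h3, -, -⟩ := exists_sigma ha hK'
  have : Finite (GL chevD4.Idx K) := inferInstance
  refine good_of_long_two (d4_hexTwo hσ h2 h3) (d4_top hσ h2) fun χ hχ hk => ?_
  obtain ⟨z, hz, hz', hne⟩ := hk
  rcases Cfsg.Agent.H893.FR.long_two (d4_hexTwo hσ h2 h3) hχ ⟨⟨z, hz'⟩, hz, hne⟩ with h | h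
  · exact Or.inl h
  · exact Or.inr ⟨trivial, h⟩

/-- **`³D₄(q)`, `q` even** -/
theorem good_3d4_even {S : Type u} [Group S] {K : Type} [Field K] [Fintype K] {q : ℕ} (hq : IsPrimePow q)
    (hK : Fintype.card K = q ^ 3) (h2 : (2 : K) = 0) (e : S ≃* twistedD4 K q) : FSGood True S :=
  Cfsg.Agent.H969.FR.fsGood_congr e.symm (good_d4 hq hK h2)

/-- **`³D₄(q)`, `q` even** -/
theorem fr_3d4_even {S : Type u} [Group S] {K : Type} [Field K] [Fintype K] {q : ℕ} (hq : IsPrimePow q)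
    (hK : Fintype.card K = q ^ 3) (h2 : (2 : K) = 0) (e : S ≃* twistedD4 K q) : FR S := by
  have : Finite S := Finite.of_equiv _ e.symm.toEquiv
  exact FR.of_good (good_3d4_even hq hK h2 e)

/-- **Row `³D₄(q)` of S4970** -/
theorem fr_3d4 {S : Type u} [Group S] (h : Iso3D4 S) : FR S := by
  obtain ⟨K, _, _, q, hq, hK, ⟨e⟩⟩ := h
  by_cases h2 : (2 : K) = 0
  · exact fr_3d4_even hq hK h2 e
  · refine Cfsg.Agent.H969.FR.fr_3d4_odd hK ?_ e
    rw [← Nat.not_even_iff_odd]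
    intro he
    apply h2
    obtain ⟨p, hp⟩ := CharP.exists K
    obtain ⟨n, hpp, hc⟩ := FiniteField.card K p
    have h3 : 2 ∣ p := by
      refine Nat.prime_two.dvd_of_dvd_pow (n := n) ?_
      rw [← hc, hK]
      exact Dvd.dvd.pow he.two_dvd (by norm_num)
    have h4 : 2 = p := (Nat.prime_dvd_prime_iff_eq Nat.prime_two hpp).1 h3
    subst h4
    exact_mod_cast CharP.cast_eq_zero K 2

end Cfsg.Agent.H168.FRHex.Rows
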