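import Cfsg.Agent.H168.FRHex.Sign
import Cfsg.Agent.H168.FRHex.LeviCover
import Cfsg.Agent.H168.SRHex.Cen
import Cfsg.Agent.H168.SRHex.LTwo

/-!
# The Sylow 2-subgroup of the centraliser of a short root involution (team SR, S4970; helper168)

`T_good` : no irreducible character of `T = C_U(x 3 1)` has indicator `-1`.
-/

set_option autoImplicit false
set_option linter.unusedVariables false

namespace Cfsg.Agent.H168.FRHex.Short

open Cfsg Cfsg.Agent.H955.FS Cfsg.Agent.StdRank2.Hex Cfsg.Agent.StdRank2.Hex.HexTwo Cfsg.Agent.SplitTwo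

universe u v

variable {E : Type u} [Field E] {σ : E ≃+* E} {G : Type v} [Group G] {x : ZMod 12 → E → G}

/-- the centraliser of `x 3 1` -/
def X3 (x : ZMod 12 → E → G) : Subgroup G := Subgroup.centralizer {x 3 1}

theorem mem_X3 {g : G} : g ∈ X3 x ↔ g * x 3 1 = x 3 1 * g := Subgroup.mem_centralizer_singleton_iff

variable (h : HexTwo σ x)
include h

theorem uu_mem_X3 {a b c d e f : E} (hb : σ b = b) (hd : σ d = d) (hf : σ f = f) :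
    uu x a b c d e f ∈ X3 x ↔ trc σ a 1 = 0 ∧ trc σ 1 e = 0 := by
  have z : σ (0 : E) = 0 := map_zero σ
  rw [mem_X3, h.uu_x3 hb hd hf 1, mul_left_inj, ← h.q3]
  constructor
  · intro e1
    have := h.q_inj (h.fix_trc a 1) (h.fix_trc 1 e) z z z z e1
    exact ⟨this.1, this.2.2.1⟩
  · rintro ⟨h1, h2⟩
    rw [h1, h2]

theorem q_mem_X3 {b c d e f : E} (hb : σ b = b) (hd : σ d = d) (hf : σ f = f) :
    q x b c d e f ∈ X3 x ↔ trc σ 1 e = 0 := by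
  rw [← h.uq, uu_mem_X3 h hb hd hf, trc_zero_left]
  exact ⟨fun h1 => h1.2, fun h1 => ⟨rfl, h1⟩⟩

theorem mem_1234 {g : G} : g ∈ gen σ x (arc 1 4) ↔ ∃ a b c d, σ b = b ∧ σ d = d ∧ g = uu x a b c d 0 0 := by
  constructor
  · intro hg
    obtain ⟨a, ha, g1, hg1, rfl⟩ := (h.mem_gen_first (k := 1) (n := 3) (by norm_num)).1 hg
    obtain ⟨b, c, d, hb, hd, rfl⟩ := h.mem_234.1 hg1
    exact ⟨a, b, c, d, hb, hd, rfl⟩
  · rintro ⟨a, b, c, d, hb, hd, rfl⟩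
    exact (h.mem_gen_first (k := 1) (n := 3) (by norm_num)).2 ⟨a, ok1 a, _, h.mem_234.2 ⟨b, c, d, hb, hd, rfl⟩, rfl⟩

/-- `X₂X₃(F)X₄` -/
def Z3 : Subgroup G where
  carrier := {g | ∃ b c d, σ b = b ∧ σ c = c ∧ σ d = d ∧ g = q x b c d 0 0}
  mul_mem' := by
    rintro _ _ ⟨b, c, d, hb, hc, hd, rfl⟩ ⟨b', c', d', hb', hc', hd', rfl⟩
    have z : σ (0 : E) = 0 := map_zero σ
    refine ⟨b + b', c + c', d + d', by rw [map_add, hb, hb'], by rw [map_add, hc, hc'], by rw [map_add, hd, hd'], ?_⟩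
    rw [h.q_mul hb hd z hb' hd' z, trc_zero_right, mul_zero, add_zero, add_zero, add_zero]
  one_mem' := ⟨0, 0, 0, map_zero σ, map_zero σ, map_zero σ, h.q_zero.symm⟩
  inv_mem' := by
    rintro _ ⟨b, c, d, hb, hc, hd, rfl⟩
    have z : σ (0 : E) = 0 := map_zero σ
    refine ⟨b, c, d, hb, hc, hd, inv_eq_of_mul_eq_one_left ?_⟩
    rw [h.q_mul hb hd z hb hd z, trc_zero_right, mul_zero, add_zero, add_zero, h.add_self, h.add_self, h.add_self,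
      h.add_self, h.q_zero]

theorem mem_Z3 {g : G} : g ∈ Z3 h ↔ ∃ b c d, σ b = b ∧ σ c = c ∧ σ d = d ∧ g = q x b c d 0 0 := Iff.rfl

theorem Z3_sq {g : G} (hg : g ∈ Z3 h) : g * g = 1 := by
  obtain ⟨b, c, d, hb, hc, hd, rfl⟩ := hg
  have z : σ (0 : E) = 0 := map_zero σ
  rw [h.q_mul hb hd z hb hd z, trc_zero_right, mul_zero, add_zero, add_zero, h.add_self, h.add_self, h.add_self,
      h.add_self, h.q_zero]

/-- `T = C_U(x 3 1)` -/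
def T (σ : E ≃+* E) (x : ZMod 12 → E → G) : Subgroup G := UU σ x ⊓ X3 x
/-- `C_{X₁X₂X₃X₄}(x 3 1)` -/
def A1 (σ : E ≃+* E) (x : ZMod 12 → E → G) : Subgroup G := gen σ x (arc 1 4) ⊓ X3 x
/-- `C_{X₂X₃X₄X₅X₆}(x 3 1)` -/
def A2 (σ : E ≃+* E) (x : ZMod 12 → E → G) : Subgroup G := gen σ x (arc 2 5) ⊓ X3 x
/-- `C_{X₁X₂X₃X₄X₅}(x 3 1)` -/
def N (σ : E ≃+* E) (x : ZMod 12 → E → G) : Subgroup G := gen σ x (arc 1 5) ⊓ X3 x

theorem mem_T {g : G} : g ∈ T σ x ↔ ∃ a b c d e f, σ b = b ∧ σ d = d ∧ σ f = f ∧ trc σ a 1 = 0 ∧ trc σ 1 e = 0 ∧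
    g = uu x a b c d e f := by
  constructor
  · rintro ⟨h1, h2⟩
    obtain ⟨a, b, c, d, e, f, hb, hd, hf, rfl⟩ := h.mem_UU.1 h1
    obtain ⟨h3, h4⟩ := (uu_mem_X3 h hb hd hf).1 h2
    exact ⟨a, b, c, d, e, f, hb, hd, hf, h3, h4, rfl⟩
  · rintro ⟨a, b, c, d, e, f, hb, hd, hf, h3, h4, rfl⟩
    exact ⟨h.mem_UU.2 ⟨a, b, c, d, e, f, hb, hd, hf, rfl⟩, (uu_mem_X3 h hb hd hf).2 ⟨h3, h4⟩⟩

theorem mem_A1 {g : G} : g ∈ A1 σ x ↔ ∃ a b c d, σ b = b ∧ σ d = d ∧ trc σ a 1 = 0 ∧ g = uu x a b c d 0 0 := by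
  have z : σ (0 : E) = 0 := map_zero σ
  constructor
  · rintro ⟨h1, h2⟩
    obtain ⟨a, b, c, d, hb, hd, rfl⟩ := (mem_1234 h).1 h1
    exact ⟨a, b, c, d, hb, hd, ((uu_mem_X3 h hb hd z).1 h2).1, rfl⟩
  · rintro ⟨a, b, c, d, hb, hd, h3, rfl⟩
    exact ⟨(mem_1234 h).2 ⟨a, b, c, d, hb, hd, rfl⟩, (uu_mem_X3 h hb hd z).2 ⟨h3, trc_zero_right 1⟩⟩

theorem mem_A2 {g : G} : g ∈ A2 σ x ↔ ∃ b c d e f, σ b = b ∧ σ d = d ∧ σ f = f ∧ trc σ 1 e = 0 ∧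
    g = q x b c d e f := by
  constructor
  · rintro ⟨h1, h2⟩
    obtain ⟨b, c, d, e, f, hb, hd, hf, rfl⟩ := h.mem_Q1.1 h1
    exact ⟨b, c, d, e, f, hb, hd, hf, (q_mem_X3 h hb hd hf).1 h2, rfl⟩
  · rintro ⟨b, c, d, e, f, hb, hd, hf, h3, rfl⟩
    exact ⟨h.mem_Q1.2 ⟨b, c, d, e, f, hb, hd, hf, rfl⟩, (q_mem_X3 h hb hd hf).2 h3⟩

theorem mem_N {g : G} : g ∈ N σ x ↔ ∃ a b c d e, σ b = b ∧ σ d = d ∧ trc σ a 1 = 0 ∧ trc σ 1 e = 0 ∧
    g = uu x a b c d e 0 := by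
  have z : σ (0 : E) = 0 := map_zero σ
  constructor
  · rintro ⟨h1, h2⟩
    obtain ⟨a, b, c, d, e, hb, hd, rfl⟩ := h.mem_Q2.1 h1
    obtain ⟨h3, h4⟩ := (uu_mem_X3 h hb hd z).1 h2
    exact ⟨a, b, c, d, e, hb, hd, h3, h4, rfl⟩
  · rintro ⟨a, b, c, d, e, hb, hd, h3, h4, rfl⟩
    exact ⟨h.mem_Q2.2 ⟨a, b, c, d, e, hb, hd, rfl⟩, (uu_mem_X3 h hb hd z).2 ⟨h3, h4⟩⟩

theorem A1_le : A1 σ x ≤ T σ x := by
  intro g hg
  obtain ⟨a, b, c, d, hb, hd, h1, rfl⟩ := (mem_A1 h).1 hg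
  exact (mem_T h).2 ⟨a, b, c, d, 0, 0, hb, hd, map_zero σ, h1, trc_zero_right 1, rfl⟩

theorem A2_le : A2 σ x ≤ T σ x := by
  intro g hg
  obtain ⟨b, c, d, e, f, hb, hd, hf, h1, rfl⟩ := (mem_A2 h).1 hg
  exact (mem_T h).2 ⟨0, b, c, d, e, f, hb, hd, hf, trc_zero_left 1, h1, (h.uq b c d e f).symm⟩

theorem N_le : N σ x ≤ T σ x := by
  intro g hg
  obtain ⟨a, b, c, d, e, hb, hd, h1, h2, rfl⟩ := (mem_N h).1 hg
  exact (mem_T h).2 ⟨a, b, c, d, e, 0, hb, hd, map_zero σ, h1, h2, rfl⟩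

theorem Z3_le_A1 : Z3 h ≤ A1 σ x := by
  rintro _ ⟨b, c, d, hb, hc, hd, rfl⟩
  exact (mem_A1 h).2 ⟨0, b, c, d, hb, hd, trc_zero_left 1, (h.uq b c d 0 0).symm⟩

theorem Z3_le_A2 : Z3 h ≤ A2 σ x := by
  rintro _ ⟨b, c, d, hb, hc, hd, rfl⟩
  exact (mem_A2 h).2 ⟨b, c, d, 0, 0, hb, hd, map_zero σ, trc_zero_right 1, rfl⟩

theorem Z3_le_N : Z3 h ≤ N σ x := by
  rintro _ ⟨b, c, d, hb, hc, hd, rfl⟩
  exact (mem_N h).2 ⟨0, b, c, d, 0, hb, hd, trc_zero_left 1, trc_zero_right 1, (h.uq b c d 0 0).symm⟩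

theorem x2_mem {s : E} (hs : σ s = s) : x 2 s ∈ Z3 h := ⟨s, 0, 0, hs, map_zero σ, map_zero σ, (h.q2 s).symm⟩
theorem x4_mem {s : E} (hs : σ s = s) : x 4 s ∈ Z3 h := ⟨0, 0, s, map_zero σ, map_zero σ, hs, (h.q4 s).symm⟩
theorem x3_mem {s : E} (hs : σ s = s) : x 3 s ∈ Z3 h := ⟨0, s, 0, map_zero σ, hs, map_zero σ, (h.q3 s).symm⟩

/-- squares in `A1` -/
theorem sq_A1 {a b c d : E} (hb : σ b = b) (hd : σ d = d) :
    uu x a b c d 0 0 * uu x a b c d 0 0 = x 2 (trc σ a c) := by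
  have z : σ (0 : E) = 0 := map_zero σ
  rw [h.uu_mul hb hd z hb hd z, ← h.q2, ← h.uq]
  simp only [trc_zero_right, trc_zero_left, crs_zero_left, crs_zero_right, shp_zero, nrm_zero, zero_mul, mul_zero,
    add_zero, zero_add, h.add_self, show (0 : E) ^ 2 = 0 by norm_num]
  congr 1
  rw [add_right_comm, h.add_self, zero_add]

/-- squares in `A2` -/
theorem sq_A2 {b c d e f : E} (hb : σ b = b) (hd : σ d = d) (hf : σ f = f) :
    q x b c d e f * q x b c d e f = x 4 (b * f + trc σ c e) := by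
  rw [h.q_mul hb hd hf hb hd hf, ← h.q4]
  simp only [h.add_self, zero_add]

theorem fix_crs {a e : E} (ha : trc σ a 1 = 0) (he : trc σ 1 e = 0) : σ (crs σ a e) = crs σ a e := by
  have h2 := h.two
  have c3 := h.cube
  unfold trc at ha he
  unfold crs
  rw [mul_one] at ha
  rw [one_mul] at he
  simp only [map_add, map_mul, c3]
  have e1 : a = σ a + σ (σ a) := by linear_combination ha - (σ a + σ (σ a)) * h2
  have e2 : e = σ e + σ (σ e) := by linear_combination he - (σ e + σ (σ e)) * h2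
  calc σ (σ a) * e + a * σ (σ e) = σ (σ a) * (σ e + σ (σ e)) + (σ a + σ (σ a)) * σ (σ e) := by rw [← e1, ← e2]
    _ = σ a * σ (σ e) + σ (σ a) * σ e := by linear_combination (σ (σ a) * σ (σ e)) * h2

/-- squares in `N` -/
theorem sq_N {a b c d e : E} (hb : σ b = b) (hd : σ d = d) (ha : trc σ a 1 = 0) (he : trc σ 1 e = 0) :
    uu x a b c d e 0 * uu x a b c d e 0 ∈ Z3 h := by
  have z : σ (0 : E) = 0 := map_zero σ
  rw [h.uu_mul hb hd z hb hd z]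
  refine ⟨b + trc σ a c + trc σ (shp σ a) e + 0 * nrm σ a + b, c + crs σ a e + 0 * shp σ a + c,
    d + trc σ a (shp σ e) + 0 ^ 2 * nrm σ a + 0 * trc σ (shp σ a) e + d + b * 0 + trc σ c (e + 0 * a), ?_, ?_, ?_, ?_⟩
  · simp only [map_add, map_mul, h.fix_trc, h.fix_nrm, hb, z]
  · have e1 : c + crs σ a e + 0 * shp σ a + c = crs σ a e := by
      rw [zero_mul, add_zero, add_right_comm, h.add_self, zero_add]
    rw [e1]
    exact fix_crs h ha he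
  · simp only [map_add, map_mul, map_pow, h.fix_trc, h.fix_nrm, hd, hb, z]
  · rw [← h.uq]
    simp only [zero_mul, add_zero, h.add_self]

end Cfsg.Agent.H168.FRHex.Short
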