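import Cfsg.Agent.H168.FRHex.Mono

/-!
# Sign characters (team SR, S4970; helper168)

* `exists_sign_amb` : ambient form of `exists_sign`;
* `dich` : an irreducible character is constant on a subgroup of exponent two or contains a non-trivial sign character;
* `conj_over` : conjugate sign characters;
* `dual` : additive sign characters of a finite field.
-/

set_option autoImplicit false

universe u

namespace Cfsg.Agent.H168.FRHex

open Cfsg Cfsg.Agent.H955.FS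
open Cfsg.Agent.Characters.Core
open scoped ComplexConjugate

theorem exists_sign_amb {Γ : Type u} [Group Γ] (X A Z : Subgroup Γ) [Finite X] (hAX : A ≤ X) (hZA : Z ≤ A)
    (lam : Γ → ℂ) (hlam : ∀ a ∈ Z, ∀ b ∈ Z, lam (a * b) = lam a * lam b) (hpm : ∀ a ∈ Z, lam a = 1 ∨ lam a = -1)
    (hsq : ∀ a ∈ A, a * a ∈ Z ∧ lam (a * a) = 1) (f : X → ℂ)
    (hf : ∑ᶠ z : Z, f ⟨z, hAX (hZA z.2)⟩ * lam z ≠ 0) :
    ∃ mu : Γ → ℂ, (∀ a ∈ A, ∀ b ∈ A, mu (a * b) = mu a * mu b) ∧ (∀ a ∈ A, mu a = 1 ∨ mu a = -1) ∧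
      (∀ z ∈ Z, mu z = lam z) ∧ ∑ᶠ a : A, f ⟨a, hAX a.2⟩ * mu a ≠ 0 := by
  classical
  have : Finite A := Finite.of_injective (Subgroup.inclusion hAX) (Subgroup.inclusion_injective hAX)
  obtain ⟨mu, h1, h2, h3, h4⟩ := exists_sign (Z.subgroupOf A) (fun a => lam (a : A))
    (fun a ha b hb => hlam _ (Subgroup.mem_subgroupOf.1 ha) _ (Subgroup.mem_subgroupOf.1 hb))
    (fun a ha => hpm _ (Subgroup.mem_subgroupOf.1 ha))
    (fun a => ⟨Subgroup.mem_subgroupOf.2 (hsq a a.2).1, (hsq a a.2).2⟩) (fun a => f ⟨a, hAX a.2⟩) (by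
      intro h0
      apply hf
      rw [← h0]
      let e : Z ≃ Z.subgroupOf A := (Subgroup.subgroupOfEquivOfLe hZA).symm.toEquiv
      exact finsum_eq_of_bijective e e.bijective (fun a => rfl))
  let mu' : Γ → ℂ := fun g => if hg : g ∈ A then mu ⟨g, hg⟩ else 0
  have hmu : ∀ (g : Γ) (hg : g ∈ A), mu' g = mu ⟨g, hg⟩ := fun g hg => dif_pos hg
  refine ⟨mu', ?_, ?_, ?_, ?_⟩
  · intro a ha b hb
    rw [hmu a ha, hmu b hb, hmu _ (mul_mem ha hb), ← h1]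
    rfl
  · intro a ha
    rw [hmu a ha]
    exact h2 _
  · intro z hz
    rw [hmu z (hZA hz), h3 _ (Subgroup.mem_subgroupOf.2 hz)]
  · intro h0
    apply h4
    rw [← h0]
    refine finsum_congr fun a => ?_
    rw [hmu a a.2]

/-- **Dichotomy.** -/
theorem dich {Γ : Type u} [Group Γ] (X Z : Subgroup Γ) [Finite X] (hZX : Z ≤ X) (hZ2 : ∀ z ∈ Z, z * z = 1)
    (f : X → ℂ) :
    (∃ lam : Γ → ℂ, (∀ a ∈ Z, ∀ b ∈ Z, lam (a * b) = lam a * lam b) ∧ (∀ a ∈ Z, lam a = 1 ∨ lam a = -1) ∧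
      (∃ z ∈ Z, lam z ≠ 1) ∧ ∑ᶠ z : Z, f ⟨z, hZX z.2⟩ * lam z ≠ 0) ∨
    ∀ (z : Γ) (hz : z ∈ Z), f ⟨z, hZX hz⟩ = f 1 := by
  classical
  by_contra hcon
  push Not at hcon
  obtain ⟨h1, z0, hz0, h2⟩ := hcon
  have hfZ : Finite Z := Finite.of_injective (Subgroup.inclusion hZX) (Subgroup.inclusion_injective hZX)
  have := Fintype.ofFinite Z
  let g0 : Z := ⟨z0, hz0⟩
  let F : X → ℂ := fun y => if hy : (y : Γ) ∈ Z then f y - f (y * ⟨z0, hZX hz0⟩) else 0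
  have hF : ∀ z : Z, F ⟨z, hZX z.2⟩ = f ⟨z, hZX z.2⟩ - f ⟨(z : Γ) * z0, hZX (mul_mem z.2 hz0)⟩ := fun z =>
    dif_pos z.2
  obtain ⟨mu, m1, m2, -, m4⟩ := exists_sign_amb X Z ⊥ hZX bot_le (fun _ => 1) (fun _ _ _ _ => by norm_num)
    (fun _ _ => Or.inl rfl) (fun a ha => ⟨by rw [hZ2 a ha]; exact one_mem _, rfl⟩) F (by
      rw [finsum_eq_single _ (1 : (⊥ : Subgroup Γ)) (fun z hz => absurd (Subsingleton.elim z 1) hz)]
      rw [mul_one]
      have := hF 1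
      intro h0
      apply h2
      have e1 : F ⟨((1 : (⊥ : Subgroup Γ)) : Γ), hZX (bot_le (a := Z) (1 : (⊥ : Subgroup Γ)).2)⟩ = F ⟨((1 : Z) : Γ), hZX (1 : Z).2⟩ := rfl
      rw [e1, this] at h0
      have e2 : (⟨((1 : Z) : Γ), hZX (1 : Z).2⟩ : X) = 1 := rfl
      have e3 : (⟨((1 : Z) : Γ) * z0, hZX (mul_mem (1 : Z).2 hz0)⟩ : X) = ⟨z0, hZX hz0⟩ := Subtype.ext (one_mul z0)
      rw [e2, e3] at h0
      exact (sub_eq_zero.1 h0).symm)
  rw [finsum_eq_sum_of_fintype] at m4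
  have hz1 : mu z0 * mu z0 = 1 := by
    rcases m2 z0 hz0 with h | h <;> rw [h] <;> norm_num
  have e4 : ∑ z : Z, F ⟨z, hZX z.2⟩ * mu z = (1 - mu z0) * ∑ z : Z, f ⟨z, hZX z.2⟩ * mu z := by
    have e5 : ∑ z : Z, f ⟨(z : Γ) * z0, hZX (mul_mem z.2 hz0)⟩ * mu z = mu z0 * ∑ z : Z, f ⟨z, hZX z.2⟩ * mu z := by
      rw [Finset.mul_sum]
      refine Fintype.sum_equiv (Equiv.mulRight g0) _ _ fun z => ?_
      have e6 : mu ((z : Γ) * z0) = mu z * mu z0 := m1 z z.2 z0 hz0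
      show f ⟨(z : Γ) * z0, _⟩ * mu z = mu z0 * (f ⟨(z : Γ) * z0, _⟩ * mu ((z : Γ) * z0))
      rw [e6]
      calc f ⟨(z : Γ) * z0, _⟩ * mu z = f ⟨(z : Γ) * z0, _⟩ * mu z * (mu z0 * mu z0) := by rw [hz1, mul_one]
        _ = _ := by ring
    simp_rw [hF, sub_mul, Finset.sum_sub_distrib, e5, one_mul]
  rw [e4] at m4
  have h5 := h1 mu m1 m2 ⟨z0, hz0, fun h0 => m4 (by rw [h0, sub_self, zero_mul])⟩
  rw [finsum_eq_sum_of_fintype] at h5
  exact m4 (by rw [h5, mul_zero])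

/-- conjugate sign characters -/
theorem conj_over {Γ : Type u} [Group Γ] (X Z : Subgroup Γ) [Finite X] (hZX : Z ≤ X) {p : Γ} (hp : p ∈ X)
    (hpZ : ∀ z, z ∈ Z ↔ p * z * p⁻¹ ∈ Z) (lam : Γ → ℂ) {χ : X → ℂ} (hχ : IsIrrCharacter X χ)
    (hf : ∑ᶠ z : Z, χ ⟨z, hZX z.2⟩ * lam z ≠ 0) :
    ∑ᶠ z : Z, χ ⟨z, hZX z.2⟩ * lam (p * z * p⁻¹) ≠ 0 := by
  intro h0
  apply hf
  rw [← h0]
  let e : Z ≃ Z :=
    { toFun := fun z => ⟨p⁻¹ * z * p, by
        rw [hpZ]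
        have : p * (p⁻¹ * (z : Γ) * p) * p⁻¹ = z := by group
        rw [this]; exact z.2⟩
      invFun := fun z => ⟨p * z * p⁻¹, (hpZ z).1 z.2⟩
      left_inv := fun z => Subtype.ext (by show p * (p⁻¹ * (z : Γ) * p) * p⁻¹ = z; group)
      right_inv := fun z => Subtype.ext (by show p⁻¹ * (p * (z : Γ) * p⁻¹) * p = z; group) }
  refine finsum_eq_of_bijective e e.bijective fun z => ?_
  have e1 : p * ((e z : Z) : Γ) * p⁻¹ = z := by
    show p * (p⁻¹ * (z : Γ) * p) * p⁻¹ = z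
    group
  rw [e1]
  congr 1
  have h2 := isIrr_isClassFunction hχ ⟨z, hZX z.2⟩ ⟨p⁻¹, inv_mem hp⟩
  rw [← h2]
  congr 1
  apply Subtype.ext
  show (p⁻¹ * (z : Γ) * p⁻¹⁻¹) = p⁻¹ * (z : Γ) * p
  rw [inv_inv]

/-- **Duality** for additive sign characters of a finite field. -/
theorem dual {F : Type*} [Field F] [Finite F] (α β : F → ℂ) (hα : ∀ s t, α (s + t) = α s * α t)
    (hβ : ∀ s t, β (s + t) = β s * β t) (hα1 : α 0 = 1) (hβ1 : β 0 = 1) (hβn : ∃ s, β s ≠ 1) :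
    ∃ u, ∀ s, α s = β (u * s) := by
  classical
  have := Fintype.ofFinite F
  let a : AddChar F ℂ := { toFun := α, map_zero_eq_one' := hα1, map_add_eq_mul' := hα }
  let b : AddChar F ℂ := { toFun := β, map_zero_eq_one' := hβ1, map_add_eq_mul' := hβ }
  have hb : b ≠ 1 := by
    obtain ⟨s, hs⟩ := hβn
    intro e
    have h1 : b s = (1 : AddChar F ℂ) s := by rw [e]
    exact hs h1
  have hp : b.IsPrimitive := AddChar.IsPrimitive.of_ne_one hb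
  have hinj := AddChar.to_mulShift_inj_of_isPrimitive hp
  have hbij : Function.Bijective (fun u : F => b.mulShift u) := by
    have hf : Finite (AddChar F ℂ) := inferInstance
    have hc : Nat.card F = Nat.card (AddChar F ℂ) := by
      rw [Nat.card_eq_fintype_card (α := F), ← AddChar.card_eq (α := F)]
      exact (Nat.card_eq_fintype_card).symm
    exact (Nat.bijective_iff_injective_and_card _).2 ⟨hinj, hc⟩
  obtain ⟨u, hu⟩ := hbij.2 a
  refine ⟨u, fun s => ?_⟩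
  have h1 : b.mulShift u s = a s := by rw [← hu]
  rw [AddChar.mulShift_apply] at h1
  exact h1.symm

end Cfsg.Agent.H168.FRHex
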